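import Groth.Agent.SymGr95.Basic
import Mathlib.RingTheory.LocalRing.ResidueField.Ideal
import Mathlib.SetTheory.Cardinal.Finite

/-!
Coverings of the symmetric product of a projective spectrum.
-/

set_option linter.unusedSectionVars false
set_option autoImplicit false

universe u

open scoped TensorProduct

namespace Groth.Agent.SymGr95

variable {A B : Type u} [CommRing A] [CommRing B] [Algebra A B] {𝒜 : ℕ → Submodule A B} [GradedAlgebra 𝒜] {d : ℕ}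
  (D : Subalgebra A (⨂[A] _ : Fin d, B)) (hD : D = Csub 𝒜 d ⊓ SymTen.TS A B d)

include hD in
theorem exists_pow_mem (hgen : Algebra.adjoin A (𝒜 1 : Set B) = ⊤) (G : Set D) {k : ℕ} (hk : 0 < k)
    {t : ⨂[A] _ : Fin d, B} (htD : t ∈ D)
    (htk : t ∈ Submodule.span A {s | ∃ b : Fin d → B, (∀ i, b i ∈ 𝒜 k) ∧ s = PiTensorProduct.tprod A b})
    (hG : ∀ (E : Type u) [CommRing E] [IsDomain E] (χ : Csub 𝒜 d →+* E) (x : Fin d → B), (∀ i, x i ∈ 𝒜 1) →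
      tot χ (PiTensorProduct.tprod A x) ≠ 0 → ∃ g ∈ G, tot χ ((g : D) : ⨂[A] _ : Fin d, B) ≠ 0) :
    ∃ m : ℕ, 0 < m ∧ (⟨t, htD⟩ : D) ^ m ∈ Ideal.span G := by
  by_contra! hno
  have hrad : (⟨t, htD⟩ : D) ∉ (Ideal.span G).radical := by
    rintro ⟨m, hm⟩
    refine hno (m + 1) m.succ_pos ?_
    rw [pow_succ]
    exact Ideal.mul_mem_right _ _ hm
  rw [Ideal.radical_eq_sInf, Submodule.mem_sInf] at hrad
  simp only [not_forall, exists_prop] at hrad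
  obtain ⟨P, ⟨hPG, hP⟩, htP⟩ := hrad
  haveI := hP
  obtain ⟨E, _, _, χ, hχ⟩ := exists_point D hD P
  have hC : ∀ {x : ⨂[A] _ : Fin d, B}, x ∈ D → x ∈ Csub 𝒜 d := fun hx => (hD ▸ hx : _ ∈ Csub 𝒜 d ⊓ SymTen.TS A B d).1
  have ht0 : tot χ t ≠ 0 := by
    rw [tot_eq χ (hC htD)]
    exact fun h => htP ((hχ t htD _).mp h)
  obtain ⟨x, hx, hgx⟩ := exists_pure_ne χ hgen hk htk ht0
  obtain ⟨g, hg, hgne⟩ := hG E χ x hx hgx
  refine hgne ?_
  rw [tot_eq χ (hC g.2)]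
  exact (hχ _ g.2 _).mpr (hPG (Ideal.subset_span hg))

include hD in
theorem pow_mem_span_degOne (hgen : Algebra.adjoin A (𝒜 1 : Set B) = ⊤) (hfg : (𝒜 1).FG) {k : ℕ} (hk : 0 < k)
    {t : ⨂[A] _ : Fin d, B} (htD : t ∈ D)
    (htk : t ∈ Submodule.span A {s | ∃ b : Fin d → B, (∀ i, b i ∈ 𝒜 k) ∧ s = PiTensorProduct.tprod A b}) :
    ∃ m : ℕ, 0 < m ∧ (⟨t, htD⟩ : D) ^ m ∈
      Ideal.span {x : D | (x : ⨂[A] _ : Fin d, B) ∈
        Submodule.span A {s | ∃ b : Fin d → B, (∀ i, b i ∈ 𝒜 1) ∧ s = PiTensorProduct.tprod A b}} := by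
  refine exists_pow_mem D hD hgen _ hk htD htk fun E _ _ χ x hx hgx => ?_
  obtain ⟨r, y, hy⟩ := Submodule.fg_iff_exists_fin_generating_family.mp hfg
  obtain ⟨s, hsC, hsT, hs1, hs0⟩ := exists_orbitSum_ne χ x hx hgx y
    (fun l => hy ▸ Submodule.subset_span ⟨l, rfl⟩) (le_of_eq hy.symm)
  exact ⟨⟨s, by rw [hD]; exact ⟨hsC, hsT⟩⟩, hs1, hs0⟩

include hD in
theorem pow_mem_span_tpow (hgen : Algebra.adjoin A (𝒜 1 : Set B) = ⊤) {k : ℕ} (hk : 0 < k)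
    {t : ⨂[A] _ : Fin d, B} (htD : t ∈ D)
    (htk : t ∈ Submodule.span A {s | ∃ b : Fin d → B, (∀ i, b i ∈ 𝒜 k) ∧ s = PiTensorProduct.tprod A b}) :
    ∃ m : ℕ, 0 < m ∧ (⟨t, htD⟩ : D) ^ m ∈
      Ideal.span {x : D | ∃ (n : ℕ) (f : B), 0 < n ∧ f ∈ 𝒜 n ∧
        (x : ⨂[A] _ : Fin d, B) = PiTensorProduct.tprod A (fun _ : Fin d => f)} := by
  refine exists_pow_mem D hD hgen _ hk htD htk fun E _ _ χ x hx hgx => ?_
  obtain ⟨n, f, hn, hf, hne⟩ := exists_avoid χ x hx hgx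
  refine ⟨⟨PiTensorProduct.tprod A fun _ : Fin d => f, ?_⟩, ⟨n, f, hn, hf, rfl⟩, tot_diag_ne χ x hx hf hne⟩
  rw [hD]
  exact ⟨pure_mem fun _ => hf, (SymTen.tpow A B d f).2⟩

include hD in
theorem pow_mem_span_tpow_degOne (hgen : Algebra.adjoin A (𝒜 1 : Set B) = ⊤)
    (hres : ∀ p : PrimeSpectrum A, (d : Cardinal) ≤ Cardinal.mk p.asIdeal.ResidueField) {k : ℕ} (hk : 0 < k)
    {t : ⨂[A] _ : Fin d, B} (htD : t ∈ D)
    (htk : t ∈ Submodule.span A {s | ∃ b : Fin d → B, (∀ i, b i ∈ 𝒜 k) ∧ s = PiTensorProduct.tprod A b}) :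
    ∃ m : ℕ, 0 < m ∧ (⟨t, htD⟩ : D) ^ m ∈
      Ideal.span {x : D | ∃ f : B, f ∈ 𝒜 1 ∧
        (x : ⨂[A] _ : Fin d, B) = PiTensorProduct.tprod A (fun _ : Fin d => f)} := by
  refine exists_pow_mem D hD hgen _ hk htD htk fun E _ _ χ x hx hgx => ?_
  let p : PrimeSpectrum A := ⟨RingHom.ker (scal χ), RingHom.ker_isPrime _⟩
  haveI : p.asIdeal.IsPrime := p.isPrime
  obtain ⟨ι⟩ : Nonempty (ULift.{u} (Fin d) ↪ p.asIdeal.ResidueField) := by
    rw [← Cardinal.le_def]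
    simpa using hres p
  have hq : ∀ z : p.asIdeal.ResidueField, ∃ r s : A, s ∉ p.asIdeal ∧
      z = algebraMap A p.asIdeal.ResidueField r / algebraMap A p.asIdeal.ResidueField s := by
    intro z
    obtain ⟨a, b, hb, rfl⟩ := IsFractionRing.div_surjective (A ⧸ p.asIdeal) z
    obtain ⟨r, rfl⟩ := Ideal.Quotient.mk_surjective a
    obtain ⟨s, rfl⟩ := Ideal.Quotient.mk_surjective b
    refine ⟨r, s, fun hs => nonZeroDivisors.ne_zero hb (Ideal.Quotient.eq_zero_iff_mem.mpr hs), ?_⟩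
    rw [IsScalarTower.algebraMap_apply A (A ⧸ p.asIdeal) p.asIdeal.ResidueField,
      IsScalarTower.algebraMap_apply A (A ⧸ p.asIdeal) p.asIdeal.ResidueField]
    rfl
  choose r s hs hrs using fun j : Fin d => hq (ι ⟨j⟩)
  obtain ⟨f, hf, hne⟩ := exists_avoid_linear χ x hx hgx (fun j => (r j, s j))
    (fun j h => hs j (RingHom.mem_ker.mpr h)) (fun j k hjk h => hjk (by
      have h' : algebraMap A p.asIdeal.ResidueField (r j * s k - r k * s j) = 0 :=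
        Ideal.algebraMap_residueField_eq_zero.mpr (RingHom.mem_ker.mpr h)
      have hne : ∀ j, algebraMap A p.asIdeal.ResidueField (s j) ≠ 0 := fun j h0 =>
        hs j (Ideal.algebraMap_residueField_eq_zero.mp h0)
      rw [map_sub, map_mul, map_mul, sub_eq_zero, ← div_eq_div_iff (hne j) (hne k), ← hrs, ← hrs] at h'
      exact congrArg ULift.down (ι.injective h')))
  refine ⟨⟨PiTensorProduct.tprod A fun _ : Fin d => f, ?_⟩, ⟨f, hf, rfl⟩, tot_diag_ne χ x hx hf hne⟩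
  rw [hD]
  exact ⟨pure_mem fun _ => hf, (SymTen.tpow A B d f).2⟩

end Groth.Agent.SymGr95
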