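import Groth.Agent.PolLaw95.SymLaw
import Mathlib.RingTheory.GradedAlgebra.Basic
import Mathlib.RingTheory.Ideal.GoingUp
import Mathlib.RingTheory.Polynomial.Vieta

/-!
Symmetric tensors of a graded algebra generated in degree one: covering by `f ⊗ ⋯ ⊗ f`.
-/

set_option linter.unusedSectionVars false
set_option autoImplicit false

universe u

open scoped TensorProduct

namespace Groth.Agent.SymGr95

open Groth.Agent.PolLaw95

variable {A B : Type u} [CommRing A] [CommRing B] [Algebra A B] (𝒜 : ℕ → Submodule A B) [GradedAlgebra 𝒜] (d : ℕ)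

/-- Pure tensors with all entries in one degree. -/
def pureSet : Set (⨂[A] _ : Fin d, B) :=
  {t | ∃ (k : ℕ) (b : Fin d → B), (∀ i, b i ∈ 𝒜 k) ∧ t = PiTensorProduct.tprod A b}

/-- The Segre subalgebra. -/
noncomputable def Csub : Subalgebra A (⨂[A] _ : Fin d, B) := Algebra.adjoin A (pureSet 𝒜 d)

variable {𝒜 d}

theorem pure_mem {k : ℕ} {b : Fin d → B} (hb : ∀ i, b i ∈ 𝒜 k) :
    PiTensorProduct.tprod A b ∈ Csub 𝒜 d := Algebra.subset_adjoin ⟨k, b, hb, rfl⟩

theorem perm_mem (σ : Equiv.Perm (Fin d)) {c : ⨂[A] _ : Fin d, B} (hc : c ∈ Csub 𝒜 d) :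
    SymTen.perm A B d σ c ∈ Csub 𝒜 d := by
  induction hc using Algebra.adjoin_induction with
  | mem x hx =>
    obtain ⟨k, b, hb, rfl⟩ := hx
    rw [SymTen.perm_tprod]
    exact pure_mem fun i => hb _
  | algebraMap r => rw [AlgHom.commutes]; exact Subalgebra.algebraMap_mem _ _
  | add x y _ _ hx hy => rw [map_add]; exact add_mem hx hy
  | mul x y _ _ hx hy => rw [map_mul]; exact mul_mem hx hy

variable (𝒜 d) in
/-- The permutation action on the Segre subalgebra. -/
noncomputable def permC (σ : Equiv.Perm (Fin d)) : Csub 𝒜 d →ₐ[A] Csub 𝒜 d :=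
  ((SymTen.perm A B d σ).comp (Csub 𝒜 d).val).codRestrict _ fun c => perm_mem σ c.2

theorem permC_permC (σ τ : Equiv.Perm (Fin d)) (c : Csub 𝒜 d) :
    permC 𝒜 d σ (permC 𝒜 d τ c) = permC 𝒜 d (σ * τ) c := by
  refine Subtype.ext ?_
  show SymTen.perm A B d σ (SymTen.perm A B d τ c) = SymTen.perm A B d (σ * τ) c
  have h : (SymTen.perm A B d σ).comp (SymTen.perm A B d τ) = SymTen.perm A B d (σ * τ) := by
    refine AlgHom.ext fun t => ?_
    induction t using PiTensorProduct.induction_on with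
    | smul_tprod r f => simp [Equiv.Perm.mul_def]
    | add x y hx hy => rw [map_add, map_add, hx, hy]
  exact DFunLike.congr_fun h _

variable (D : Subalgebra A (⨂[A] _ : Fin d, B)) (hD : D = Csub 𝒜 d ⊓ SymTen.TS A B d)

include hD in
/-- A point of the symmetric part lifts to a point of the Segre algebra. -/
theorem exists_point (P : Ideal D) [P.IsPrime] :
    ∃ (E : Type u) (_ : CommRing E) (_ : IsDomain E) (χ : Csub 𝒜 d →+* E),
      ∀ (x : ⨂[A] _ : Fin d, B) (hxD : x ∈ D) (hxC : x ∈ Csub 𝒜 d),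
        χ ⟨x, hxC⟩ = 0 ↔ (⟨x, hxD⟩ : D) ∈ P := by
  classical
  have hle : D ≤ Csub 𝒜 d := hD ▸ inf_le_left
  letI : Algebra D (Csub 𝒜 d) := (Subalgebra.inclusion hle).toRingHom.toAlgebra
  have hint : Algebra.IsIntegral D (Csub 𝒜 d) := by
    refine ⟨fun c => ?_⟩
    let p : Polynomial (Csub 𝒜 d) := ∏ σ : Equiv.Perm (Fin d), (Polynomial.X - Polynomial.C (permC 𝒜 d σ c))
    have hinv : ∀ τ, p.map (permC 𝒜 d τ).toRingHom = p := by
      intro τ
      simp only [p, Polynomial.map_prod, Polynomial.map_sub, Polynomial.map_X, Polynomial.map_C]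
      exact Fintype.prod_equiv (Equiv.mulLeft τ) _ _ fun σ => by
        simp [permC_permC]
    have hcoef : ∀ m, ((p.coeff m : Csub 𝒜 d) : ⨂[A] _ : Fin d, B) ∈ D := by
      intro m
      rw [hD]
      refine ⟨(p.coeff m).2, fun σ => ?_⟩
      have h := congrArg (fun q => ((Polynomial.coeff q m : Csub 𝒜 d) : ⨂[A] _ : Fin d, B)) (hinv σ)
      simp only [Polynomial.coeff_map] at h
      rw [← SymTen.perm_apply]
      exact h
    have hl : p ∈ Polynomial.lifts (algebraMap D (Csub 𝒜 d)) :=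
      (Polynomial.lifts_iff_coeff_lifts p).mpr fun m => ⟨⟨_, hcoef m⟩, Subtype.ext rfl⟩
    have hm : p.Monic := Polynomial.monic_prod_of_monic _ _ fun σ _ => Polynomial.monic_X_sub_C _
    rcases subsingleton_or_nontrivial (Csub 𝒜 d) with hsub | hnt
    · exact ⟨1, Polynomial.monic_one, Subsingleton.elim _ _⟩
    obtain ⟨q, hq, -, hqm⟩ := Polynomial.lifts_and_degree_eq_and_monic hl hm
    refine ⟨q, hqm, ?_⟩
    rw [← Polynomial.eval_map, hq, Polynomial.eval_prod]
    refine Finset.prod_eq_zero (Finset.mem_univ 1) ?_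
    have : permC 𝒜 d 1 c = c := Subtype.ext (by
      show SymTen.perm A B d 1 (c : ⨂[A] _ : Fin d, B) = c
      rw [SymTen.perm_apply, Equiv.Perm.one_def, PiTensorProduct.reindex_refl]
      rfl)
    simp [this]
  obtain ⟨Q, -, hQ, hQP⟩ := Ideal.exists_ideal_over_prime_of_isIntegral P (⊥ : Ideal (Csub 𝒜 d)) (by
    rw [← RingHom.ker_eq_comap_bot]
    intro x hx
    have : x = 0 := Subtype.ext (Subtype.ext_iff.mp (RingHom.mem_ker.mp hx) :)
    rw [this]; exact zero_mem _)
  refine ⟨Csub 𝒜 d ⧸ Q, inferInstance, Ideal.Quotient.isDomain Q, Ideal.Quotient.mk Q, fun x hxD hxC => ?_⟩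
  rw [Ideal.Quotient.eq_zero_iff_mem]
  conv_rhs => rw [← hQP]
  rfl

/-- Pure tensors form a multiplicative map. -/
noncomputable def tprodHom : (Fin d → B) →* ⨂[A] _ : Fin d, B where
  toFun := PiTensorProduct.tprod A
  map_one' := (PiTensorProduct.one_def (R := A) (A := fun _ : Fin d => B)).symm
  map_mul' x y := (PiTensorProduct.tprod_mul_tprod x y).symm

theorem tprodHom_apply (f : Fin d → B) : tprodHom (A := A) f = PiTensorProduct.tprod A f := rfl

/-- A multilinear expression vanishing on spanning sets vanishes. -/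
theorem tprod_induction (p : (⨂[A] _ : Fin d, B) → Prop)
    (h0 : p 0) (hadd : ∀ u v, p u → p v → p (u + v)) (hsmul : ∀ (a : A) u, p u → p (a • u))
    (S : Set B) (hS : ∀ s : Fin d → B, (∀ i, s i ∈ S) → p (PiTensorProduct.tprod A s))
    (b : Fin d → B) (hb : ∀ i, b i ∈ Submodule.span A S) : p (PiTensorProduct.tprod A b) := by
  classical
  suffices h : ∀ T : Finset (Fin d), ∀ b : Fin d → B, (∀ i ∈ T, b i ∈ Submodule.span A S) →
      (∀ i ∉ T, b i ∈ S) → p (PiTensorProduct.tprod A b) from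
    h Finset.univ b (fun i _ => hb i) (fun i hi => absurd (Finset.mem_univ i) hi)
  intro T
  induction T using Finset.induction with
  | empty => exact fun b _ hb => hS b fun i => hb i (Finset.notMem_empty i)
  | @insert j T hj ih =>
    intro b hb1 hb2
    rw [show b = Function.update b j (b j) from (Function.update_eq_self j b).symm]
    have hbj := hb1 j (Finset.mem_insert_self j T)
    generalize b j = w at hbj
    induction hbj using Submodule.span_induction with
    | mem s hs =>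
      refine ih _ (fun i hi => ?_) (fun i hi => ?_)
      · rw [Function.update_of_ne (fun h : i = j => hj (h ▸ hi))]; exact hb1 i (Finset.mem_insert_of_mem hi)
      · rcases eq_or_ne i j with rfl | hij
        · simpa using hs
        · rw [Function.update_of_ne hij]; exact hb2 i (by simp [hij, hi])
    | zero => rw [MultilinearMap.map_update_zero]; exact h0
    | add u v _ _ hu hv => rw [MultilinearMap.map_update_add]; exact hadd _ _ hu hv
    | smul a u _ hu => rw [MultilinearMap.map_update_smul]; exact hsmul a _ hu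

/-- Homogeneous pieces are spanned by products with degree one elements. -/
theorem mem_span_mul (hgen : Algebra.adjoin A (𝒜 1 : Set B) = ⊤) (k : ℕ) {x : B} (hx : x ∈ 𝒜 (k + 1)) :
    x ∈ Submodule.span A {y | ∃ z w, z ∈ 𝒜 k ∧ w ∈ 𝒜 1 ∧ y = z * w} := by
  classical
  set M := Submodule.span A {y | ∃ z w, z ∈ 𝒜 k ∧ w ∈ 𝒜 1 ∧ y = z * w}
  have hcl : ∀ s ∈ Submonoid.closure (𝒜 1 : Set B), GradedAlgebra.proj 𝒜 (k + 1) s ∈ M := by
    have key : ∀ s ∈ Submonoid.closure (𝒜 1 : Set B), ∃ n, s ∈ 𝒜 n ∧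
        (n = 0 ∨ ∃ m z w, n = m + 1 ∧ z ∈ 𝒜 m ∧ w ∈ 𝒜 1 ∧ s = z * w) := by
      intro s hs
      induction hs using Submonoid.closure_induction_right with
      | one => exact ⟨0, SetLike.one_mem_graded 𝒜, Or.inl rfl⟩
      | mul_right x _ y hy ih =>
        obtain ⟨n, hn, -⟩ := ih
        exact ⟨n + 1, SetLike.mul_mem_graded hn hy, Or.inr ⟨n, x, y, rfl, hn, hy, rfl⟩⟩
    intro s hs
    obtain ⟨n, hn, hn'⟩ := key s hs
    rcases eq_or_ne n (k + 1) with rfl | hne
    · rw [GradedAlgebra.proj_apply, DirectSum.decompose_of_mem_same 𝒜 hn]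
      rcases hn' with h | ⟨m, z, w, hm, hz, hw, rfl⟩
      · omega
      · obtain rfl : m = k := by omega
        exact Submodule.subset_span ⟨z, w, hz, hw, rfl⟩
    · rw [GradedAlgebra.proj_apply, DirectSum.decompose_of_mem_ne 𝒜 hn hne]
      exact zero_mem _
  have hx' : x ∈ Submodule.span A (Submonoid.closure (𝒜 1 : Set B) : Set B) := by
    rw [← Algebra.adjoin_eq_span, hgen]; trivial
  have : GradedAlgebra.proj 𝒜 (k + 1) x ∈ M := by
    refine (Submodule.span_le.mpr ?_ : _ ≤ M.comap (GradedAlgebra.proj 𝒜 (k + 1))) hx'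
    exact hcl
  rwa [GradedAlgebra.proj_apply, DirectSum.decompose_of_mem_same 𝒜 hx] at this

section Point

variable {E : Type u} [CommRing E] [IsDomain E] (χ : Csub 𝒜 d →+* E)

open Classical in
/-- The point, extended by zero. -/
noncomputable def tot (u : ⨂[A] _ : Fin d, B) : E := if h : u ∈ Csub 𝒜 d then χ ⟨u, h⟩ else 0

theorem tot_eq {u : ⨂[A] _ : Fin d, B} (h : u ∈ Csub 𝒜 d) : tot χ u = χ ⟨u, h⟩ := by
  rw [tot, dif_pos h]

theorem tot_mul {u v : ⨂[A] _ : Fin d, B} (hu : u ∈ Csub 𝒜 d) (hv : v ∈ Csub 𝒜 d) :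
    tot χ (u * v) = tot χ u * tot χ v := by
  rw [tot_eq χ hu, tot_eq χ hv, tot_eq χ (mul_mem hu hv), ← map_mul]; rfl

theorem tot_add {u v : ⨂[A] _ : Fin d, B} (hu : u ∈ Csub 𝒜 d) (hv : v ∈ Csub 𝒜 d) :
    tot χ (u + v) = tot χ u + tot χ v := by
  rw [tot_eq χ hu, tot_eq χ hv, tot_eq χ (add_mem hu hv), ← map_add]; rfl

theorem tot_one : tot χ 1 = 1 := by rw [tot_eq χ (one_mem _)]; exact map_one χ

theorem tot_zero : tot χ 0 = 0 := by rw [tot_eq χ (zero_mem _)]; exact map_zero χ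

/-- The scalars at the point. -/
noncomputable def scal : A →+* E := χ.comp (algebraMap A (Csub 𝒜 d))

theorem tot_smul (a : A) {u : ⨂[A] _ : Fin d, B} (hu : u ∈ Csub 𝒜 d) :
    tot χ (a • u) = scal χ a * tot χ u := by
  rw [Algebra.smul_def, tot_mul χ (Subalgebra.algebraMap_mem _ a) hu, tot_eq χ (Subalgebra.algebraMap_mem _ a)]
  rfl

theorem tot_prod {ι : Type} (T : Finset ι) (u : ι → ⨂[A] _ : Fin d, B) (hu : ∀ i, u i ∈ Csub 𝒜 d) :
    tot χ (∏ i ∈ T, u i) = ∏ i ∈ T, tot χ (u i) := by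
  classical
  induction T using Finset.induction with
  | empty => simpa using tot_one χ
  | @insert j T hj ih =>
    rw [Finset.prod_insert hj, Finset.prod_insert hj, tot_mul χ (hu j) (prod_mem fun i _ => hu i), ih]

theorem tot_pow {u : ⨂[A] _ : Fin d, B} (hu : u ∈ Csub 𝒜 d) (n : ℕ) : tot χ (u ^ n) = tot χ u ^ n := by
  induction n with
  | zero => simpa using tot_one χ
  | succ n ih => rw [pow_succ, pow_succ, tot_mul χ (pow_mem hu n) hu, ih]

include χ in
/-- A nonvanishing pure tensor in degree one. -/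
theorem exists_pure_ne (hgen : Algebra.adjoin A (𝒜 1 : Set B) = ⊤) {k : ℕ} (hk : 0 < k)
    {t : ⨂[A] _ : Fin d, B}
    (ht : t ∈ Submodule.span A {s | ∃ b : Fin d → B, (∀ i, b i ∈ 𝒜 k) ∧ s = PiTensorProduct.tprod A b})
    (h : tot χ t ≠ 0) : ∃ x : Fin d → B, (∀ i, x i ∈ 𝒜 1) ∧ tot χ (PiTensorProduct.tprod A x) ≠ 0 := by
  by_contra! hx
  have key : ∀ k, 0 < k → ∀ b : Fin d → B, (∀ i, b i ∈ 𝒜 k) → tot χ (PiTensorProduct.tprod A b) = 0 := by
    intro k
    induction k with
    | zero => exact fun h => absurd h (lt_irrefl 0)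
    | succ k ih =>
      intro _ b hb
      rcases Nat.eq_zero_or_pos k with rfl | hk0
      · exact hx b hb
      refine (tprod_induction (p := fun u => u ∈ Csub 𝒜 d ∧ tot χ u = 0) ⟨zero_mem _, tot_zero χ⟩
        (fun u v hu hv => ⟨add_mem hu.1 hv.1, by rw [tot_add χ hu.1 hv.1, hu.2, hv.2, add_zero]⟩)
        (fun a u hu => ⟨Subalgebra.smul_mem _ hu.1 a, by rw [tot_smul χ a hu.1, hu.2, mul_zero]⟩)
        _ (fun s hs => ?_) b fun i => mem_span_mul hgen k (hb i)).2
      choose z w hz hw hzw using hs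
      rw [show s = z * w from funext hzw]
      rw [← PiTensorProduct.tprod_mul_tprod z w]
      refine ⟨mul_mem (pure_mem hz) (pure_mem hw), ?_⟩
      rw [tot_mul χ (pure_mem hz) (pure_mem hw), hx w hw, mul_zero]
  refine h ?_
  refine ((Submodule.span_induction (p := fun u _ => u ∈ Csub 𝒜 d ∧ tot χ u = 0) ?_ ⟨zero_mem _, tot_zero χ⟩
    (fun u v _ _ hu hv => ⟨add_mem hu.1 hv.1, by rw [tot_add χ hu.1 hv.1, hu.2, hv.2, add_zero]⟩)
    (fun a u _ hu => ⟨Subalgebra.smul_mem _ hu.1 a, by rw [tot_smul χ a hu.1, hu.2, mul_zero]⟩)) ht).2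
  rintro _ ⟨b, hb, rfl⟩
  exact ⟨pure_mem hb, key k hk b hb⟩

variable (x : Fin d → B) (hx : ∀ i, x i ∈ 𝒜 1) (hgx : tot χ (PiTensorProduct.tprod A x) ≠ 0)

/-- The value of a homogeneous element at the `i`-th point. -/
noncomputable def Phi (i : Fin d) (n : ℕ) (b : B) : E :=
  tot χ (PiTensorProduct.tprod A (Function.update (fun l => x l ^ n) i b))

include hx in
theorem slot_mem (i : Fin d) {n : ℕ} {b : B} (hb : b ∈ 𝒜 n) :
    PiTensorProduct.tprod A (Function.update (fun l => x l ^ n) i b) ∈ Csub 𝒜 d := by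
  refine pure_mem (k := n) fun l => ?_
  rcases eq_or_ne l i with rfl | hl
  · simpa using hb
  · rw [Function.update_of_ne hl]
    simpa using SetLike.pow_mem_graded n (hx l)

include hx in
theorem Phi_mul (i : Fin d) {n m : ℕ} {b c : B} (hb : b ∈ 𝒜 n) (hc : c ∈ 𝒜 m) :
    Phi χ x i n b * Phi χ x i m c = Phi χ x i (n + m) (b * c) := by
  rw [Phi, Phi, ← tot_mul χ (slot_mem x hx i hb) (slot_mem x hx i hc), PiTensorProduct.tprod_mul_tprod, Phi]
  congr 2
  funext l
  rcases eq_or_ne l i with rfl | hl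
  · simp
  · simp [Function.update_of_ne hl, pow_add]

theorem Phi_zero_one (i : Fin d) : Phi χ x i 0 1 = 1 := by
  rw [Phi, show Function.update (fun l => x l ^ 0) i (1 : B) = 1 from funext fun l => by
    rcases eq_or_ne l i with rfl | hl <;> simp [*]]
  rw [← tprodHom_apply, map_one, tot_one]

include hx in
theorem Phi_pow (i : Fin d) {n : ℕ} {b : B} (hb : b ∈ 𝒜 n) (m : ℕ) :
    Phi χ x i (n * m) (b ^ m) = Phi χ x i n b ^ m := by
  induction m with
  | zero => simpa using Phi_zero_one χ x i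
  | succ m ih =>
    rw [pow_succ, pow_succ, ← ih, Phi_mul χ x hx i (by rw [Nat.mul_comm]; exact SetLike.pow_mem_graded m hb) hb]
    rfl

include hx in
theorem Phi_prod (i : Fin d) {ι : Type} (T : Finset ι) (n : ℕ) (b : ι → B) (hb : ∀ j, b j ∈ 𝒜 n) :
    ∏ j ∈ T, b j ∈ 𝒜 (n * T.card) ∧
      Phi χ x i (n * T.card) (∏ j ∈ T, b j) = ∏ j ∈ T, Phi χ x i n (b j) := by
  classical
  induction T using Finset.induction with
  | empty => simpa using ⟨SetLike.one_mem_graded 𝒜, Phi_zero_one χ x i⟩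
  | @insert j T hj ih =>
    rw [Finset.prod_insert hj, Finset.prod_insert hj, Finset.card_insert_of_notMem hj,
      show n * (T.card + 1) = n + n * T.card by ring]
    exact ⟨SetLike.mul_mem_graded (hb j) ih.1, by rw [← Phi_mul χ x hx i (hb j) ih.1, ih.2]⟩

include hx in
theorem Phi_add (i : Fin d) {n : ℕ} {b c : B} (hb : b ∈ 𝒜 n) (hc : c ∈ 𝒜 n) :
    Phi χ x i n (b + c) = Phi χ x i n b + Phi χ x i n c := by
  rw [Phi, MultilinearMap.map_update_add, tot_add χ (slot_mem x hx i hb) (slot_mem x hx i hc)]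
  rfl

include hx in
theorem Phi_smul (i : Fin d) {n : ℕ} {b : B} (a : A) (hb : b ∈ 𝒜 n) :
    Phi χ x i n (a • b) = scal χ a * Phi χ x i n b := by
  rw [Phi, MultilinearMap.map_update_smul, tot_smul χ a (slot_mem x hx i hb)]
  rfl

theorem Phi_zero (i : Fin d) (n : ℕ) : Phi χ x i n 0 = 0 := by
  rw [Phi, MultilinearMap.map_update_zero, tot_zero]

theorem Phi_self (i : Fin d) : Phi χ x i 1 (x i) = tot χ (PiTensorProduct.tprod A x) := by
  rw [Phi]
  congr 2
  funext l
  rcases eq_or_ne l i with rfl | hl <;> simp [*]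

include hx in
theorem prod_Phi (n : ℕ) (b : Fin d → B) (hb : ∀ i, b i ∈ 𝒜 n) :
    ∏ i, Phi χ x i n (b i) =
      tot χ (PiTensorProduct.tprod A b) * tot χ (PiTensorProduct.tprod A x) ^ (n * (d - 1)) := by
  classical
  simp only [Phi]
  rw [← tot_prod χ _ _ fun i => slot_mem x hx i (hb i), ← tot_pow χ (pure_mem hx),
    ← tot_mul χ (pure_mem hb) (pow_mem (pure_mem hx) _)]
  congr 1
  simp only [← tprodHom_apply, ← map_prod, ← map_pow, ← map_mul]
  congr 1
  funext l
  rw [Finset.prod_apply, ← Finset.mul_prod_erase _ _ (Finset.mem_univ l), Function.update_self,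
    Pi.mul_apply, Pi.pow_apply,
    Finset.prod_congr rfl (g := fun _ => x l ^ n) (fun i hi => by
      rw [Function.update_of_ne (Finset.ne_of_mem_erase hi).symm]), Finset.prod_const,
    Finset.card_erase_of_mem (Finset.mem_univ l), Finset.card_univ, Fintype.card_fin, ← pow_mul]

include hx in
theorem tot_diag_ne {n : ℕ} {f : B} (hf : f ∈ 𝒜 n) (h : ∀ i, Phi χ x i n f ≠ 0) :
    tot χ (PiTensorProduct.tprod A fun _ : Fin d => f) ≠ 0 := fun h0 => by
  have := prod_Phi χ x hx n (fun _ => f) fun _ => hf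
  rw [h0, zero_mul] at this
  obtain ⟨i, -, hi⟩ := Finset.prod_eq_zero_iff.mp this
  exact h i hi

include hx hgx in
/-- Degree one symmetric tensors do not all vanish. -/
theorem exists_orbitSum_ne {r : ℕ} (y : Fin r → B) (hy : ∀ l, y l ∈ 𝒜 1)
    (hspan : 𝒜 1 ≤ Submodule.span A (Set.range y)) :
    ∃ s, s ∈ Csub 𝒜 d ∧ s ∈ SymTen.TS A B d ∧
      s ∈ Submodule.span A {s | ∃ b : Fin d → B, (∀ i, b i ∈ 𝒜 1) ∧ s = PiTensorProduct.tprod A b} ∧
      tot χ s ≠ 0 := by
  classical
  let L : Fin d → MvPolynomial (Fin r) E := fun i =>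
    ∑ l, MvPolynomial.C (Phi χ x i 1 (y l)) * MvPolynomial.X l
  have hL : ∀ i, L i ≠ 0 := fun i h0 => by
    have hw : ∀ l, Phi χ x i 1 (y l) = 0 := fun l => by
      have := congrArg (MvPolynomial.coeff (Finsupp.single l 1)) h0
      simpa [L, MvPolynomial.coeff_sum, MvPolynomial.coeff_X', Finsupp.single_left_inj] using this
    have : ∀ w ∈ Submodule.span A (Set.range y), w ∈ 𝒜 1 ∧ Phi χ x i 1 w = 0 := by
      intro w hw'
      induction hw' using Submodule.span_induction with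
      | mem w hw' => obtain ⟨l, rfl⟩ := hw'; exact ⟨hy l, hw l⟩
      | zero => exact ⟨zero_mem _, Phi_zero χ x i 1⟩
      | add u v _ _ hu hv => exact ⟨add_mem hu.1 hv.1, by rw [Phi_add χ x hx i hu.1 hv.1, hu.2, hv.2, add_zero]⟩
      | smul a u _ hu => exact ⟨Submodule.smul_mem _ a hu.1, by rw [Phi_smul χ x hx i a hu.1, hu.2, mul_zero]⟩
    exact hgx (Phi_self χ x i ▸ (this _ (hspan (hx i))).2)
  have hexp : ∏ i, L i = ∑ c : Fin d → Fin r,
      MvPolynomial.monomial (counts c) (∏ i, Phi χ x i 1 (y (c i))) := by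
    simp only [L]
    rw [Fintype.prod_sum]
    refine Finset.sum_congr rfl fun c _ => ?_
    rw [Finset.prod_mul_distrib, ← map_prod, ← monomial_counts, MvPolynomial.C_mul_monomial, mul_one]
  obtain ⟨α, hα⟩ := MvPolynomial.ne_zero_iff.mp (Finset.prod_ne_zero_iff.mpr fun i (_ : i ∈ Finset.univ) => hL i)
  rw [hexp, MvPolynomial.coeff_sum] at hα
  let s : ⨂[A] _ : Fin d, B :=
    ∑ c : Fin d → Fin r, if counts c = α then PiTensorProduct.tprod A (fun i => y (c i)) else 0
  have hterm : ∀ c : Fin d → Fin r,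
      (if counts c = α then PiTensorProduct.tprod A (fun i => y (c i)) else 0) ∈ Csub 𝒜 d := fun c => by
    split_ifs
    · exact pure_mem fun i => hy _
    · exact zero_mem _
  refine ⟨s, sum_mem fun c _ => hterm c, ?_, sum_mem fun c _ => ?_, fun h0 => hα ?_⟩
  · have h := coefSpan_sym0_le (A := A) (B := B) (d := d)
      (coef_mem_coefSpan (sym0 A B d).law y α)
    rwa [sym0_coef] at h
  · split_ifs
    · exact Submodule.subset_span ⟨_, fun i => hy _, rfl⟩
    · exact zero_mem _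
  · have hsum : ∀ T : Finset (Fin d → Fin r), (∀ c, c ∈ T → True) →
        tot χ (∑ c ∈ T, if counts c = α then PiTensorProduct.tprod A (fun i => y (c i)) else 0) =
        ∑ c ∈ T, if counts c = α then tot χ (PiTensorProduct.tprod A (fun i => y (c i))) else 0 := by
      intro T _
      induction T using Finset.induction with
      | empty => simpa using tot_zero χ
      | @insert c T hc ih =>
        rw [Finset.sum_insert hc, Finset.sum_insert hc, tot_add χ (hterm c) (sum_mem fun c _ => hterm c),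
          ih fun _ _ => trivial]
        split_ifs
        · rfl
        · rw [tot_zero]
    have hs := hsum Finset.univ fun _ _ => trivial
    rw [h0] at hs
    refine Eq.trans (b := (∑ c : Fin d → Fin r, if counts c = α then
      tot χ (PiTensorProduct.tprod A (fun i => y (c i))) else 0) * tot χ (PiTensorProduct.tprod A x) ^ (1 * (d - 1)))
      ?_ (by rw [← hs, zero_mul])
    rw [Finset.sum_mul]
    refine Finset.sum_congr rfl fun c _ => ?_
    rw [MvPolynomial.coeff_monomial, prod_Phi χ x hx 1 (fun i => y (c i)) fun i => hy _, ite_mul, zero_mul]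

include hx hgx in
/-- A homogeneous element avoiding all the points. -/
theorem exists_avoid : ∃ (n : ℕ) (f : B), 0 < n ∧ f ∈ 𝒜 n ∧ ∀ i, Phi χ x i n f ≠ 0 := by
  classical
  suffices h : ∀ (r : ℕ) (I : Finset (Fin d)), I.card = r →
      ∃ (n : ℕ) (f : B), 0 < n ∧ f ∈ 𝒜 n ∧ ∀ i ∈ I, Phi χ x i n f ≠ 0 by
    obtain ⟨n, f, hn, hf, h'⟩ := h _ Finset.univ rfl
    exact ⟨n, f, hn, hf, fun i => h' i (Finset.mem_univ i)⟩
  intro r
  induction r using Nat.strong_induction_on with
  | _ r ih =>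
    intro I hI
    rcases le_or_gt r 1 with hr | hr
    · rcases Finset.eq_empty_or_nonempty I with rfl | ⟨j, hj⟩
      · exact ⟨1, 0, one_pos, zero_mem _, by simp⟩
      · refine ⟨1, x j, one_pos, hx j, fun i hi => ?_⟩
        rw [(Finset.card_le_one.mp (hI.le.trans hr)) i hi j hj, Phi_self]
        exact hgx
    by_contra! hno
    have h1 : ∀ j : I, ∃ (n : ℕ) (f : B), 0 < n ∧ f ∈ 𝒜 n ∧
        (∀ i ∈ I.erase (j : Fin d), Phi χ x i n f ≠ 0) ∧ Phi χ x j n f = 0 := fun j => by
      obtain ⟨n, f, hn, hf, h'⟩ := ih (r - 1) (by omega) (I.erase j) (by rw [Finset.card_erase_of_mem j.2, hI])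
      refine ⟨n, f, hn, hf, h', ?_⟩
      obtain ⟨i, hi, hi0⟩ := hno n f hn hf
      by_contra hne
      exact (if e : i = (j : Fin d) then (e ▸ hne) hi0 else h' i (Finset.mem_erase.mpr ⟨e, hi⟩) hi0)
    choose n f hn hf hne h0 using h1
    let N := ∏ j : I, n j
    have hN : 0 < N := Finset.prod_pos fun j _ => hn j
    let F : I → B := fun j => f j ^ (N / n j)
    have hdvd : ∀ j, n j * (N / n j) = N := fun j =>
      Nat.mul_div_cancel' (Finset.dvd_prod_of_mem _ (Finset.mem_univ j))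
    have hF : ∀ j, F j ∈ 𝒜 N := fun j => by
      have := SetLike.pow_mem_graded (A := 𝒜) (N / n j) (hf j)
      rwa [smul_eq_mul, mul_comm, hdvd] at this
    have hF' : ∀ (j : I) i, Phi χ x i N (F j) = Phi χ x i (n j) (f j) ^ (N / n j) := fun j i => by
      rw [← Phi_pow χ x hx i (hf j), hdvd]
    have hpow : ∀ j, N / n j ≠ 0 := fun j h => by have := hdvd j; rw [h, mul_zero] at this; omega
    obtain ⟨j₀, hj₀⟩ := Finset.card_pos.mp (by omega : 0 < I.card)
    let T : Finset I := (Finset.univ : Finset I).erase ⟨j₀, hj₀⟩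
    have hT : 0 < T.card := by
      rw [Finset.card_erase_of_mem (Finset.mem_univ _), Finset.card_univ, Fintype.card_coe]; omega
    obtain ⟨i, hi, hi0⟩ := hno (N * T.card) (F ⟨j₀, hj₀⟩ ^ T.card + ∏ j ∈ T, F j) (Nat.mul_pos hN hT)
      (add_mem (by have := SetLike.pow_mem_graded (A := 𝒜) T.card (hF ⟨j₀, hj₀⟩); rwa [smul_eq_mul, mul_comm] at this)
        (Phi_prod χ x hx j₀ T N F hF).1)
    rw [Phi_add χ x hx i (by have := SetLike.pow_mem_graded (A := 𝒜) T.card (hF ⟨j₀, hj₀⟩); rwa [smul_eq_mul, mul_comm] at this)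
      (Phi_prod χ x hx i T N F hF).1, (Phi_prod χ x hx i T N F hF).2, Phi_pow χ x hx i (hF _)] at hi0
    rcases eq_or_ne i j₀ with rfl | hij
    · rw [hF', show Phi χ x i (n ⟨i, hj₀⟩) (f ⟨i, hj₀⟩) = 0 from h0 ⟨i, hj₀⟩, zero_pow (hpow _), zero_pow hT.ne',
        zero_add] at hi0
      obtain ⟨j, hj, hj0⟩ := Finset.prod_eq_zero_iff.mp hi0
      rw [hF'] at hj0
      exact hne j i (Finset.mem_erase.mpr ⟨fun e => (Finset.mem_erase.mp hj).1 (Subtype.ext e.symm), hi⟩)
        (pow_eq_zero_iff (hpow j) |>.mp hj0)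
    · rw [Finset.prod_eq_zero (Finset.mem_erase.mpr ⟨fun e => hij (congrArg Subtype.val e), Finset.mem_univ (⟨i, hi⟩ : I)⟩)
        (by rw [hF', show Phi χ x i (n ⟨i, hi⟩) (f ⟨i, hi⟩) = 0 from h0 ⟨i, hi⟩, zero_pow (hpow _)]), add_zero, hF'] at hi0
      exact hne ⟨j₀, hj₀⟩ i (Finset.mem_erase.mpr ⟨hij, hi⟩)
        (pow_eq_zero_iff (hpow _) |>.mp (pow_eq_zero_iff hT.ne' |>.mp hi0))

include hx hgx in
/-- With enough scalars a linear element avoids all the points. -/
theorem exists_avoid_linear (rs : Fin d → A × A) (hs : ∀ j, scal χ (rs j).2 ≠ 0)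
    (hd : ∀ j k, j ≠ k → scal χ ((rs j).1 * (rs k).2 - (rs k).1 * (rs j).2) ≠ 0) :
    ∃ f ∈ 𝒜 1, ∀ i, Phi χ x i 1 f ≠ 0 := by
  classical
  suffices h : ∀ I : Finset (Fin d), ∃ f ∈ 𝒜 1, ∀ i ∈ I, Phi χ x i 1 f ≠ 0 by
    obtain ⟨f, hf, h'⟩ := h Finset.univ
    exact ⟨f, hf, fun i => h' i (Finset.mem_univ i)⟩
  intro I
  induction I using Finset.induction with
  | empty => exact ⟨0, zero_mem _, by simp⟩
  | @insert j I hj ih =>
    obtain ⟨a, ha, hIa⟩ := ih
    by_cases hja : Phi χ x j 1 a = 0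
    swap
    · exact ⟨a, ha, fun i hi => (Finset.mem_insert.mp hi).elim (fun e => e ▸ hja) (hIa i)⟩
    let b := x j
    have hb : Phi χ x j 1 b ≠ 0 := by rw [Phi_self]; exact hgx
    by_cases hIb : ∀ i ∈ I, Phi χ x i 1 b ≠ 0
    · exact ⟨b, hx j, fun i hi => (Finset.mem_insert.mp hi).elim (fun e => e ▸ hb) (hIb i)⟩
    obtain ⟨i₀, hi₀, hi₀b⟩ : ∃ i ∈ I, Phi χ x i 1 b = 0 := by
      obtain ⟨i, hi, h⟩ := (by simpa only [not_forall, exists_prop] using hIb : ∃ i, i ∈ I ∧ ¬ Phi χ x i 1 b ≠ 0)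
      exact ⟨i, hi, not_not.mp h⟩
    by_contra! hno
    have hval : ∀ (k : Fin d) i, Phi χ x i 1 ((rs k).2 • a + (rs k).1 • b) =
        scal χ (rs k).2 * Phi χ x i 1 a + scal χ (rs k).1 * Phi χ x i 1 b := fun k i => by
      rw [Phi_add χ x hx i (Submodule.smul_mem _ _ ha) (Submodule.smul_mem _ _ (hx j)),
        Phi_smul χ x hx i _ ha, Phi_smul χ x hx i _ (hx j)]
    have hbad : ∀ k : Fin d, ∃ i, i ∈ (insert j I).erase i₀ ∧ Phi χ x i 1 b ≠ 0 ∧
        scal χ (rs k).2 * Phi χ x i 1 a + scal χ (rs k).1 * Phi χ x i 1 b = 0 := fun k => by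
      obtain ⟨i, hi, hi0⟩ := hno _ (add_mem (Submodule.smul_mem (𝒜 1) (rs k).2 ha) (Submodule.smul_mem (𝒜 1) (rs k).1 (hx j)))
      rw [hval] at hi0
      have hbi : Phi χ x i 1 b ≠ 0 := fun hb0 => by
        rw [hb0, mul_zero, add_zero] at hi0
        rcases Finset.mem_insert.mp hi with rfl | hiI
        · exact hb hb0
        · exact hIa i hiI ((mul_eq_zero.mp hi0).resolve_left (hs k))
      exact ⟨i, Finset.mem_erase.mpr ⟨fun e => hbi (e ▸ hi₀b), hi⟩, hbi, hi0⟩
    choose kill hkmem hkb hk0 using hbad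
    have hinj : Function.Injective kill := fun k l hkl => by
      by_contra hne
      have h1 := hk0 k
      have h2 := hk0 l
      rw [← hkl] at h2
      refine hd k l hne ?_
      have : (scal χ (rs k).1 * scal χ (rs l).2 - scal χ (rs l).1 * scal χ (rs k).2) * Phi χ x (kill k) 1 b = 0 := by
        linear_combination scal χ (rs l).2 * h1 - scal χ (rs k).2 * h2
      rw [map_sub, map_mul, map_mul]
      exact (mul_eq_zero.mp this).resolve_right (hkb k)
    have h1 := Finset.card_le_card (show Finset.univ.image kill ⊆ (insert j I).erase i₀ from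
      Finset.image_subset_iff.mpr fun k _ => hkmem k)
    rw [Finset.card_image_of_injective _ hinj, Finset.card_univ, Fintype.card_fin,
      Finset.card_erase_of_mem (Finset.mem_insert_of_mem hi₀)] at h1
    have h2 := Finset.card_le_univ (insert j I)
    rw [Fintype.card_fin] at h2
    have h3 : 0 < (insert j I).card := Finset.card_pos.mpr ⟨j, Finset.mem_insert_self j I⟩
    omega

end Point

end Groth.Agent.SymGr95
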